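import Cfsg.Agent.H257.El.EngA
import Cfsg.Agent.H377.SporFi24
import Cfsg.Agent.NotCT.Orders

/-!
# TEAM ELUSIVE: `Fi24'` (helper257)
-/

set_option autoImplicit false

namespace Cfsg.Agent.H257.El.Row

open Cfsg Subgroup Cfsg.Agent.OrdDiv Cfsg.Agent.H278.El

universe u

theorem noOrd_fi24 {T : Type*} [Group T] (h : Spor.IsoFi24' T) {s : ℕ} (hs : s.Prime) (h29 : s ≠ 29) (z : T) :
    orderOf z ≠ 29 * s := by
  obtain ⟨e⟩ := h
  refine noOrd_congr e (noOrd_of_noComm (by norm_num) hs fun x y hx hy hxy => ?_) z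
  exact H377.SporRow.fi24_29 (x := (x : Spor.Fi24)) (y := (y : Spor.Fi24)) (by rw [Subgroup.orderOf_coe, hx])
    (by rw [Subgroup.orderOf_coe, hy]; exact hs) (by rw [Subgroup.orderOf_coe, hy]; exact h29)
    (congrArg Subtype.val hxy)

theorem clM_fi24 (tab : OrderTable.{u}) (known : Known.{u}) {T : Type u} [Group T] (h : Spor.IsoFi24' T) :
    ClM T := by
  have hc := NotCT.Orders.fi24 h
  have : Finite T := Nat.finite_of_card_ne_zero (by rw [hc]; norm_num)
  exact clM_of_pair tab known (r := 29) (s := 11)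
    (l := [(2, 21), (3, 16), (5, 2), (7, 3), (11, 1), (13, 1), (17, 1), (23, 1), (29, 1)]) hc
    (by norm_num) (by norm_num) (noOrd_fi24 h (by norm_num) (by norm_num)) (by decide +kernel)

theorem clT_fi24 (tab : OrderTable.{u}) (known : Known.{u}) {T : Type u} [Group T] (h : Spor.IsoFi24' T) : ClT T := by
  have : Finite T := Nat.finite_of_card_ne_zero (by rw [NotCT.Orders.fi24 h]; norm_num)
  exact (clM_fi24 tab known h).clA.clT

end Cfsg.Agent.H257.El.Row
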