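import Cfsg.Agent.H257.El.TopB
import Cfsg.Agent.H393.Iso.McLLy
import Cfsg.Agent.NotCT.Orders

/-!
# TEAM ELUSIVE: the Lyons group (helper257)

The order of the centralizer of an element of order 7 is divisible by 4 and hence not by 67.
-/

set_option autoImplicit false

namespace Cfsg.Agent.H257.El.Row

open Cfsg Subgroup Cfsg.Agent.OrdDiv Cfsg.Agent.H278.El Equiv Cfsg.Agent.SporRec.TwoAn Cfsg.Agent.TypeM.Two

universe u

/-- a cycle of length 7 -/
def sg : Perm (Fin 11) := swap 0 1 * swap 1 2 * swap 2 3 * swap 3 4 * swap 4 5 * swap 5 6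

theorem sg_mem : sg ∈ alternatingGroup (Fin 11) := by
  rw [Perm.mem_alternatingGroup]
  unfold sg
  simp only [map_mul]
  rw [Perm.sign_swap (by decide), Perm.sign_swap (by decide), Perm.sign_swap (by decide), Perm.sign_swap (by decide),
    Perm.sign_swap (by decide), Perm.sign_swap (by decide)]
  decide

theorem sg_pow : sg ^ 7 = 1 := by decide +kernel

theorem sg_ne : sg ≠ 1 := by decide +kernel

theorem sg_comm : (swap 7 8 * swap 9 10) * sg = sg * (swap 7 8 * swap 9 10) := by decide +kernel

/-- an element of order 4 commuting with an element of order 7 -/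
theorem exists_seven {G : Type*} [Group G] (L : MT 11 G) :
    ∃ y g : G, orderOf y = 7 ∧ orderOf g = 4 ∧ g * y = y * g := by
  have h2 : Fact (Nat.Prime 2) := ⟨Nat.prime_two⟩
  have h7 : Fact (Nat.Prime 7) := ⟨by norm_num⟩
  obtain ⟨y, hy, hy7⟩ := L.K.exists_odd_lift sg_mem (n := 7) (by decide) sg_pow
  obtain ⟨g, hg⟩ := L.K.exists_lift (σ := swap 7 8 * swap 9 10) (by
    rw [Perm.mem_alternatingGroup, map_mul, Perm.sign_swap (by decide), Perm.sign_swap (by decide)]
    decide)
  have hgz := L.K.dbl 7 8 9 10 (by decide) (by decide) (by decide) (by decide) (by decide) (by decide) g hg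
  have hc : y * g = g * y := L.K.commute_of_odd (n := 7) (by decide) hy7 (by
    rw [hy, hg]
    exact sg_comm.symm)
  refine ⟨y, g, ?_, ?_, (congrArg Subtype.val hc).symm⟩
  · rw [Subgroup.orderOf_coe]
    refine orderOf_eq_prime hy7 fun h => sg_ne ?_
    rw [← hy, h, map_one]
  · rw [Subgroup.orderOf_coe, show (4 : ℕ) = 2 ^ (1 + 1) by norm_num]
    refine orderOf_eq_prime_pow ?_ ?_
    · rw [pow_one, pow_two, hgz]
      exact L.K.z_ne
    · have h3 : g ^ 2 = L.K.z := by rw [pow_two, hgz]
      rw [show 2 ^ (1 + 1) = 2 * 2 by norm_num, pow_mul, h3]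
      exact L.K.z_pow_two

theorem noOrd_ly (tab : OrderTable.{u}) (known : Known.{u}) {T : Type u} [Group T] (h : Spor.IsoLy T) (z : T) :
    orderOf z ≠ 67 * 7 := by
  have hc := NotCT.Orders.ly h
  obtain ⟨hfin, -, -, ⟨L⟩⟩ := Cfsg.Agent.TypeM.FactsLy.facts h
  have h7 : Fact (Nat.Prime 7) := ⟨by norm_num⟩
  have h67 : ∀ z : T, orderOf z ≠ 67 * 2 :=
    noOrd_of_noComm (by norm_num) Nat.prime_two (H393.Iso.na_ly h)
  refine noOrd_of_noComm (by norm_num) (by norm_num) (fun x y hx hy hxy => ?_) z
  obtain ⟨y0, g0, hy0, hg0, hc0⟩ := exists_seven L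
  obtain ⟨a, ha⟩ := conj_of_cyclic (fun P => cyclic_of_sq (by rw [hc]; norm_num) P) hy hy0
  -- an element of order 4 commuting with `y`
  have h4 : 4 ∣ Nat.card (centralizer ({y} : Set T)) := by
    have h1 : orderOf (a * g0 * a⁻¹) = 4 := by
      rw [← hg0]
      exact (orderOf_injective (MulAut.conj a).toMonoidHom (MulAut.conj a).injective g0)
    rw [← h1]
    refine Subgroup.orderOf_dvd_natCard _ ?_
    rw [mem_centralizer_singleton_iff]
    have h2 : zpowers (a * y0 * a⁻¹) = zpowers y := by
      apply Subgroup.eq_of_le_of_card_ge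
      · rw [zpowers_le]; exact ha
      · rw [Nat.card_zpowers, Nat.card_zpowers, hy, ← hy0]
        exact (orderOf_injective (MulAut.conj a).toMonoidHom (MulAut.conj a).injective y0).ge
    have h3 : y ∈ zpowers (a * y0 * a⁻¹) := by rw [h2]; exact mem_zpowers y
    obtain ⟨j, hj⟩ := mem_zpowers_iff.1 h3
    have h5 : Commute (a * g0 * a⁻¹) (a * y0 * a⁻¹) := by
      change (a * g0 * a⁻¹) * (a * y0 * a⁻¹) = (a * y0 * a⁻¹) * (a * g0 * a⁻¹)
      calc _ = a * (g0 * y0) * a⁻¹ := by group
        _ = a * (y0 * g0) * a⁻¹ := by rw [hc0]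
        _ = _ := by group
    rw [← hj]
    exact (h5.zpow_right j).eq
  have hd : Nat.card (centralizer ({y} : Set T)) ∣ 51765179004000000 := by
    rw [← hc]
    exact Subgroup.card_subgroup_dvd_card _
  have hlt : Nat.card (centralizer ({y} : Set T)) < 51765179004000000 := by
    refine lt_of_le_of_ne (Nat.le_of_dvd (by norm_num) hd) fun h2 => ?_
    have ht : centralizer ({y} : Set T) = ⊤ := Subgroup.eq_top_of_card_eq _ (by rw [h2, hc])
    have hN := h67 (x * L.t)
    have h3 : ∀ w : T, w * y = y * w := fun w =>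
      mem_centralizer_singleton_iff.1 (by rw [ht]; trivial : w ∈ centralizer ({y} : Set T))
    -- `y` central: all elements of order 7 are powers of it
    have hyc : y ∈ center T := mem_center_iff.2 h3
    have hs : IsSimpleGroup T := (Cfsg.Agent.TypeM.FactsLy.facts h).2.1
    rcases hs.eq_bot_or_eq_top_of_normal (center T) inferInstance with h4 | h4
    · rw [h4, mem_bot] at hyc
      rw [hyc, orderOf_one] at hy
      norm_num at hy
    · have hcm : ∀ a b : T, a * b = b * a := fun a b =>
        (mem_center_iff.1 (by rw [h4]; trivial : b ∈ center T) a)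
      let _ : CommGroup T := { (inferInstance : Group T) with mul_comm := hcm }
      have h5 : (Nat.card T).Prime := IsSimpleGroup.prime_card
      rw [hc] at h5
      exact absurd h5 (by norm_num)
  have h8 := not_dvd_of_four tab known (n := 51765179004000000) (b := 8) (r := 67)
    (l := [(2, 8), (3, 7), (5, 6), (7, 1), (11, 1), (31, 1), (37, 1), (67, 1)]) hd hlt (by decide +kernel)
    (by norm_num) (by norm_num) (by norm_num) (fun z => by rw [← Subgroup.orderOf_coe]; exact h67 _) h4
    (by norm_num) (fun h => by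
      have := h.trans hd
      norm_num at this) (fun i h1 h2 => by interval_cases i <;> norm_num) (by decide +kernel)
  apply h8
  have h9 := Subgroup.orderOf_dvd_natCard _ (mem_centralizer_singleton_iff.2 hxy : x ∈ centralizer ({y} : Set T))
  rwa [hx] at h9

theorem clM_ly (tab : OrderTable.{u}) (known : Known.{u}) {T : Type u} [Group T] (h : Spor.IsoLy T) : ClM T := by
  have hc := NotCT.Orders.ly h
  have : Finite T := Nat.finite_of_card_ne_zero (by rw [hc]; norm_num)
  exact clM_of_pair tab known (r := 67) (s := 7)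
    (l := [(2, 8), (3, 7), (5, 6), (7, 1), (11, 1), (31, 1), (37, 1), (67, 1)]) hc
    (by norm_num) (by norm_num) (noOrd_ly tab known h) (by decide +kernel)

theorem clT_ly (tab : OrderTable.{u}) (known : Known.{u}) {T : Type u} [Group T] (h : Spor.IsoLy T) : ClT T := by
  have : Finite T := Nat.finite_of_card_ne_zero (by rw [NotCT.Orders.ly h]; norm_num)
  exact (clM_ly tab known h).clA.clT

end Cfsg.Agent.H257.El.Row
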