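import Cfsg.Agent.H257.El.EngA
import Cfsg.Agent.H478.SporBaby
import Cfsg.Agent.NotCT.Orders

/-!
# TEAM ELUSIVE: the Baby Monster (helper257)
-/

set_option autoImplicit false

namespace Cfsg.Agent.H257.El.Row

open Cfsg Cfsg.Agent.OrdDiv Cfsg.Agent.H278.El

universe u

theorem clM_b (tab : OrderTable.{u}) (known : Known.{u}) {T : Type u} [Group T] (h : Spor.IsoB T) : ClM T := by
  have hc := NotCT.Orders.b h
  have : Finite T := Nat.finite_of_card_ne_zero (by rw [hc]; norm_num)
  obtain ⟨e⟩ := h
  exact clM_of_pair tab known (r := 47) (s := 7)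
    (l := [(2, 41), (3, 13), (5, 6), (7, 2), (11, 1), (13, 1), (17, 1), (19, 1), (23, 1), (31, 1), (47, 1)]) hc
    (by norm_num) (by norm_num)
    (noOrd_congr e (noOrd_of_noComm (by norm_num) (by norm_num) fun x y hx hy => H478.SporBaby.ncomm hx hy))
    (by decide +kernel)

theorem clT_b (tab : OrderTable.{u}) (known : Known.{u}) {T : Type u} [Group T] (h : Spor.IsoB T) : ClT T := by
  have : Finite T := Nat.finite_of_card_ne_zero (by rw [NotCT.Orders.b h]; norm_num)
  exact (clM_b tab known h).clA.clT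

end Cfsg.Agent.H257.El.Row
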