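import Cfsg.Agent.H257.El.TopC
import Cfsg.Agent.H710.Spor.HN
import Cfsg.Agent.H149.Sp.HNEleven
import Cfsg.Agent.H393.Iso.He
import Cfsg.Agent.SignalizersComponents.BalEndJ1
import Cfsg.Agent.S2065
import Cfsg.Agent.NotCT.Orders

/-!
# TEAM ELUSIVE: the Harada-Norton group (helper257)

`r = 19`: the simple group at the top is not commutative (two classes of involutions), its order is divisible by 11 since
the order of the centralizer of an element of order 11 is not divisible by 4, hence it is `J1`, and `R` has one class of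
involutions.
-/

set_option autoImplicit false

namespace Cfsg.Agent.H257.El.Row

open Cfsg Subgroup Cfsg.Agent.OrdDiv Cfsg.Agent.H278.El

universe u

/-- transport of two elements and the orders of their centralizers -/
theorem exists_cards_congr {G H : Type*} [Group G] [Group H] (e : G ≃* H) {s : ℕ}
    (h : ∃ x y : H, orderOf x = s ∧ orderOf y = s ∧
      Nat.card (centralizer ({x} : Set H)) ≠ Nat.card (centralizer ({y} : Set H))) :
    ∃ x y : G, orderOf x = s ∧ orderOf y = s ∧
      Nat.card (centralizer ({x} : Set G)) ≠ Nat.card (centralizer ({y} : Set G)) := by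
  obtain ⟨x, y, hx, hy, hxy⟩ := h
  have key : ∀ y : H, Nat.card (centralizer ({e.symm y} : Set G)) = Nat.card (centralizer ({y} : Set H)) := by
    intro y
    have h1 : centralizer ({y} : Set H) = (centralizer ({e.symm y} : Set G)).map e.toMonoidHom := by
      ext v
      rw [mem_centralizer_singleton_iff]
      constructor
      · intro hv
        refine ⟨e.symm v, ?_, by simp⟩
        rw [SetLike.mem_coe, mem_centralizer_singleton_iff, ← map_mul, hv, map_mul]
      · rintro ⟨u, hu, rfl⟩
        rw [SetLike.mem_coe, mem_centralizer_singleton_iff] at hu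
        change e u * y = y * e u
        have h2 := congrArg e hu
        rw [map_mul, map_mul, e.apply_symm_apply] at h2
        exact h2
    rw [h1, Subgroup.card_map_of_injective e.injective]
  exact ⟨e.symm x, e.symm y, by rw [MulEquiv.orderOf_eq, hx], by rw [MulEquiv.orderOf_eq, hy], by rw [key, key]; exact hxy⟩

/-- the automorphism group of `J1` -/
theorem card_mulAut_j1 {X : Type*} [Group X] [Finite X] (h : Spor.IsoJ1 X) : Nat.card (MulAut X) ∣ 1 * Nat.card X := by
  obtain ⟨e⟩ := h
  have h1 := H713.card_mulAut_dvd (S := Spor.J1) (o := 1) (by rw [Cfsg.Agent.S2065.result])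
  rw [Nat.card_congr e.toEquiv, Nat.card_congr (MulAut.congr e).toEquiv]
  exact h1

theorem conj_j1 {X : Type*} [Group X] (h : Spor.IsoJ1 X) {a b : X} (ha : orderOf a = 2) (hb : orderOf b = 2) :
    ∃ g, g * b * g⁻¹ = a := by
  obtain ⟨e⟩ := h
  obtain ⟨g, hg⟩ := Cfsg.Agent.SignalizersComponents.BalEndJ1.isConj_J1 (e b) (e a)
    (by rw [MulEquiv.orderOf_eq, hb]) (by rw [MulEquiv.orderOf_eq, ha])
  refine ⟨e.symm g, e.injective ?_⟩
  rw [map_mul, map_mul, map_inv, e.apply_symm_apply, hg]

def lHN : List (ℕ × ℕ) := [(2, 14), (3, 6), (5, 6), (7, 1), (11, 1), (19, 1)]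

theorem hn_chk1 : ((surv 273030912000000 lHN 19 []).all fun g => (ordN g % 11 != 0 &&
    ((ordN g % 2 ^ 2 == 0 && ordN g % 2 ^ (2 + 1) != 0) || (ordN g % 2 ^ 9 == 0 && ordN g % 2 ^ (9 + 1) != 0))) ||
    (match g with | .j1 => true | _ => false)) = true := by decide +kernel

theorem clA_hn (tab : OrderTable.{u}) (known : Known.{u}) {T : Type u} [Group T] (h : Spor.IsoHN T) : ClA T := by
  have hc := NotCT.Orders.hn h
  have : Finite T := Nat.finite_of_card_ne_zero (by rw [hc]; norm_num)
  have h19 : ∀ z : T, orderOf z ≠ 19 * 2 :=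
    noOrd_of_noComm (by norm_num) Nat.prime_two (H393.Iso.na_hn h)
  obtain ⟨e⟩ := h
  obtain ⟨x, y, hx, hy, hxy⟩ := exists_cards_congr e H710.Spor.HN.exists_cards
  have h11 : ∀ y : T, orderOf y = 11 → ¬ 4 ∣ Nat.card (centralizer ({y} : Set T)) := by
    intro y hy h4
    obtain ⟨z, hz, h5⟩ := exists_cent_congr e.symm (s := 11) (P := fun k => 4 ∣ k) ⟨y, hy, h4⟩
    exact Cfsg.Agent.H149.Sp.hn_cent_eleven z hz h5
  intro R hR
  by_contra hnd
  have hall : ∀ p : ℕ, p.Prime → p ∣ 273030912000000 → p ∣ Nat.card R := fun p hp hd =>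
    dvd_of_not_der hnd hp (by rw [hc]; exact hd)
  have S : SitA T 273030912000000 lHN 19 R := sitA_of_not tab known hc (by decide +kernel) (by norm_num)
    (by decide +kernel) (by decide +kernel) hR hall
  obtain ⟨O, hO, N, ht⟩ := S.exists_top
  have h2O := S.not_dvd_core ht Nat.prime_two (by norm_num) h19 (by decide +kernel)
  have hna := S.not_comm_of_two hnd ht Nat.prime_two (by norm_num) h2O hx hy (two_of_centA hx hy hxy)
  obtain ⟨g, hg, hreal, hgc⟩ := S.exists_surv ht hna [] (by simp)
  have h1 := List.all_eq_true.1 hn_chk1 g hg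
  rw [Bool.or_eq_true] at h1
  rcases h1 with h1 | h1
  · rw [Bool.and_eq_true, Bool.or_eq_true, Bool.and_eq_true, Bool.and_eq_true] at h1
    obtain ⟨h2, h3⟩ := h1
    have h11N : ¬ 11 ∣ Nat.card N := by
      rw [hgc]
      intro hd
      rw [Nat.mod_eq_zero_of_dvd hd] at h2
      exact absurd h2 (by decide)
    have key : ∀ a, 2 ≤ a → a ≤ 9 → 2 ^ a ∣ Nat.card N → ¬ 2 ^ (a + 1) ∣ Nat.card N → False := by
      intro a ha2 ha9 h4 h5
      obtain ⟨w, hw, hwd⟩ := S.exists_cent ht hna (s := 11) (p := 2) (by norm_num) Nat.prime_two (by norm_num)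
        (by norm_num) (by norm_num) h11N h4 h5 (fun b hb hba => by
          have : b ≤ 9 := hba.trans ha9
          interval_cases b <;> norm_num)
      exact h11 w hw ((pow_dvd_pow 2 ha2).trans hwd)
    rcases h3 with ⟨h4, h5⟩ | ⟨h4, h5⟩
    · refine key 2 le_rfl (by norm_num) ?_ ?_
      · rw [hgc]; exact Nat.dvd_of_mod_eq_zero (by simpa using h4)
      · rw [hgc]
        intro hd
        rw [Nat.mod_eq_zero_of_dvd hd] at h5
        exact absurd h5 (by decide)
    · refine key 9 (by norm_num) le_rfl ?_ ?_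
      · rw [hgc]; exact Nat.dvd_of_mod_eq_zero (by simpa using h4)
      · rw [hgc]
        intro hd
        rw [Nat.mod_eq_zero_of_dvd hd] at h5
        exact absurd h5 (by decide)
  · -- `N` is `J1`
    have hg1 : g = .j1 := by
      cases g <;> first | rfl | (exact absurd h1 Bool.false_ne_true)
    have hJ : Spor.IsoJ1 N := by
      rw [hg1] at hreal
      exact hreal
    have hidx : N.index = 1 := Nat.dvd_one.1 (ht.index_dvd_out hna (card_mulAut_j1 hJ))
    have hNt : N = ⊤ := Subgroup.index_eq_one.1 hidx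
    refine false_of_conj hnd Nat.prime_two (fun a b ha hb => conj_of_quot O h2O ?_ ha hb) hx hy hxy
    intro a b ha hb
    obtain ⟨w, hw⟩ := conj_j1 hJ (a := (⟨a, by rw [hNt]; trivial⟩ : N)) (b := ⟨b, by rw [hNt]; trivial⟩)
      (by rw [Subgroup.orderOf_mk, ha]) (by rw [Subgroup.orderOf_mk, hb])
    exact ⟨w, congrArg Subtype.val hw⟩

theorem clT_hn (tab : OrderTable.{u}) (known : Known.{u}) {T : Type u} [Group T] (h : Spor.IsoHN T) : ClT T :=
  (clA_hn tab known h).clT

end Cfsg.Agent.H257.El.Row
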