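import Cfsg.Agent.H257.El.EngA
import Cfsg.Agent.H337.JankoOfIso
import Cfsg.Agent.S5577
import Cfsg.Agent.NotCT.Orders

/-!
# TEAM ELUSIVE: the fourth Janko group (helper257)
-/

set_option autoImplicit false

namespace Cfsg.Agent.H257.El.Row

open Cfsg Subgroup Cfsg.Agent.OrdDiv Cfsg.Agent.H278.El

universe u

/-- a self-centralising Sylow subgroup of prime order -/
theorem card_cent_of_sylow {T : Type*} [Group T] [Finite T] {r : ℕ} [hr : Fact r.Prime] (h1 : r ∣ Nat.card T)
    (h2 : ¬ r ^ 2 ∣ Nat.card T) (h : ∀ U : Sylow r T, centralizer ((U : Subgroup T) : Set T) = (U : Subgroup T))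
    {x : T} (hx : orderOf x = r) : Nat.card (centralizer ({x} : Set T)) = r := by
  have hp : IsPGroup r (zpowers x) := IsPGroup.of_card (n := 1) (by rw [Nat.card_zpowers, hx, pow_one])
  obtain ⟨U, hU⟩ := hp.exists_le_sylow
  have hUc : Nat.card U = r := by
    have h5 := Top.card_sylow_of U (a := 1) (by rw [pow_one]; exact h1) h2
    rwa [pow_one] at h5
  have hUe : zpowers x = U := by
    apply Subgroup.eq_of_le_of_card_ge hU
    rw [hUc, Nat.card_zpowers, hx]
  have h3 := h U
  rw [← hUe, zpowers_eq_closure, centralizer_closure, ← zpowers_eq_closure] at h3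
  rw [h3, Nat.card_zpowers, hx]

theorem clM_j4 (tab : OrderTable.{u}) (known : Known.{u}) {T : Type u} [Group T] (h : Spor.IsoJ4 T) : ClM T := by
  have hc := NotCT.Orders.j4 h
  have hJ := H337.isOfJankoFourType_of_isoJ4 h
  obtain ⟨e⟩ := h
  have : Finite T := Nat.finite_of_card_ne_zero (by rw [hc]; norm_num)
  have hs : IsSimpleGroup T := e.isSimpleGroup_congr.2 Cfsg.Agent.S1703.result.1
  have hna : ¬ IsMulCommutative T := by
    intro hm
    let _ : CommGroup T := { (inferInstance : Group T) with mul_comm := fun a b => hm.is_comm.comm a b }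
    have h1 : (Nat.card T).Prime := IsSimpleGroup.prime_card
    rw [hc] at h1
    exact absurd h1 (by norm_num)
  have h43 := (S5577.result hna hJ).2.2.2.2
  have : Fact (Nat.Prime 43) := ⟨by norm_num⟩
  exact clM_of_pair tab known (r := 43) (s := 37)
    (l := [(2, 21), (3, 3), (5, 1), (7, 1), (11, 3), (23, 1), (29, 1), (31, 1), (37, 1), (43, 1)]) hc
    (by norm_num) (by norm_num)
    (noOrd_of_cent (by norm_num) (fun x hx => card_cent_of_sylow (by rw [hc]; norm_num) (by rw [hc]; norm_num)
      (fun U => (h43 U).1) hx) (by norm_num) (by norm_num))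
    (by decide +kernel)

theorem clT_j4 (tab : OrderTable.{u}) (known : Known.{u}) {T : Type u} [Group T] (h : Spor.IsoJ4 T) : ClT T := by
  have : Finite T := Nat.finite_of_card_ne_zero (by rw [NotCT.Orders.j4 h]; norm_num)
  exact (clM_j4 tab known h).clA.clT

end Cfsg.Agent.H257.El.Row
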